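import Mathlib.CategoryTheory.Localization.CalculusOfFractions
import Mathlib.CategoryTheory.Limits.Preserves.Finite
import Mathlib.CategoryTheory.FinCategory.Basic
import Mathlib.Data.Fintype.Sigma

/-!
# Localization at a left multiplicative system and finite colimits
-/

set_option autoImplicit false

universe v u v' u'

open CategoryTheory CategoryTheory.Limits

namespace Groth.Agent.CatLoc

variable {C : Type u} [Category.{v} C] {W : MorphismProperty C} [W.HasLeftCalculusOfFractions]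

lemma exists_common {Y : C} {ι : Type} (S : Finset ι) (Z : ι → C) (s : ∀ i, Y ⟶ Z i) (hs : ∀ i ∈ S, W (s i)) :
    ∃ (Y' : C) (t : Y ⟶ Y'), W t ∧ ∀ i ∈ S, ∃ w : Z i ⟶ Y', s i ≫ w = t := by
  classical
  induction S using Finset.induction_on with
  | empty => exact ⟨Y, 𝟙 Y, W.id_mem Y, fun i hi => absurd hi (Finset.notMem_empty i)⟩
  | insert a S _ ih =>
    obtain ⟨Y', t, ht, hw⟩ := ih fun i hi => hs i (Finset.mem_insert_of_mem hi)
    obtain ⟨φ, hφ⟩ := (MorphismProperty.RightFraction.mk (s a) (hs a (Finset.mem_insert_self a S)) t).exists_leftFraction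
    refine ⟨φ.Y', t ≫ φ.s, W.comp_mem _ _ ht φ.hs, fun i hi => ?_⟩
    rcases Finset.mem_insert.1 hi with rfl | hi
    · exact ⟨φ.f, hφ.symm⟩
    · obtain ⟨w, hw⟩ := hw i hi
      exact ⟨w ≫ φ.s, by rw [← Category.assoc, hw]⟩

variable {D : Type u'} [Category.{v'} D] (L : C ⥤ D) [L.IsLocalization W]

variable (W) in
lemma exists_equalizing {Y : C} {ι : Type} (S : Finset ι) (X : ι → C) (a b : ∀ i, X i ⟶ Y)
    (h : ∀ i ∈ S, L.map (a i) = L.map (b i)) :
    ∃ (Y' : C) (t : Y ⟶ Y'), W t ∧ ∀ i ∈ S, a i ≫ t = b i ≫ t := by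
  classical
  induction S using Finset.induction_on with
  | empty => exact ⟨Y, 𝟙 Y, W.id_mem Y, fun i hi => absurd hi (Finset.notMem_empty i)⟩
  | insert c S _ ih =>
    obtain ⟨Y', t, ht, hw⟩ := ih fun i hi => h i (Finset.mem_insert_of_mem hi)
    obtain ⟨Y'', r, hr, he⟩ := (MorphismProperty.map_eq_iff_postcomp L W (a c ≫ t) (b c ≫ t)).1
      (by rw [L.map_comp, L.map_comp, h c (Finset.mem_insert_self c S)])
    refine ⟨Y'', t ≫ r, W.comp_mem _ _ ht hr, fun i hi => ?_⟩
    rcases Finset.mem_insert.1 hi with rfl | hi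
    · simpa using he
    · rw [← Category.assoc, hw i hi, Category.assoc]

variable (W) in
include W in
theorem preservesFiniteColimits : PreservesFiniteColimits L := by
  classical
  have hL : L.EssSurj := Localization.essSurj L W
  have hW : W.IsInvertedBy L := Localization.inverts L W
  refine ⟨fun J _ _ => ⟨fun {K} => ⟨fun {c} hc => ⟨IsColimit.ofExistsUnique fun s => ?_⟩⟩⟩⟩
  obtain ⟨Y, ⟨e⟩⟩ := hL.mem_essImage s.pt
  choose φ hφ using fun j => Localization.exists_leftFraction L W (s.ι.app j ≫ e.inv)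
  obtain ⟨Y', t, ht, hw⟩ := exists_common (W := W) Finset.univ (fun j : J => (φ j).Y') (fun j => (φ j).s) fun j _ => (φ j).hs
  choose w hw using fun j => hw j (Finset.mem_univ j)
  have hg : ∀ j, L.map ((φ j).f ≫ w j) = s.ι.app j ≫ e.inv ≫ L.map t := fun j => by
    rw [← Category.assoc, hφ j, ← hw j, L.map_comp, L.map_comp]
    exact ((φ j).map_comp_map_s_assoc L hW _).symm
  obtain ⟨Y'', r, hr, heq⟩ := exists_equalizing W L (Finset.univ : Finset (Σ j j' : J, j ⟶ j'))
    (fun a => K.obj a.1) (fun a => K.map a.2.2 ≫ (φ a.2.1).f ≫ w a.2.1) (fun a => (φ a.1).f ≫ w a.1)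
    fun a _ => by
      rw [L.map_comp, hg, hg]
      exact (Category.assoc _ _ _).symm.trans (congrArg (· ≫ e.inv ≫ L.map t) (s.w a.2.2))
  let cC : Cocone K :=
    { pt := Y''
      ι := { app := fun j => ((φ j).f ≫ w j) ≫ r
             naturality := fun j j' a => by
               have h := heq ⟨j, j', a⟩ (Finset.mem_univ _)
               dsimp at h ⊢
               rw [Category.comp_id, ← h]; simp only [Category.assoc] } }
  have : IsIso (L.map (t ≫ r)) := hW _ (W.comp_mem _ _ ht hr)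
  let v : s.pt ⟶ L.obj Y'' := e.inv ≫ L.map (t ≫ r)
  have hv : ∀ j, L.map (((φ j).f ≫ w j) ≫ r) = s.ι.app j ≫ v := fun j => by
    rw [L.map_comp, hg]; simp [v]
  refine ⟨L.map (hc.desc cC) ≫ inv v, fun j => ?_, fun u hu => ?_⟩
  · refine (Category.assoc _ _ _).symm.trans ?_
    erw [← L.map_comp, hc.fac, hv j]
    simp
  · obtain ⟨ψ, hψ⟩ := Localization.exists_leftFraction L W (u ≫ v)
    obtain ⟨Z, q, hq, hqe⟩ := exists_equalizing W L (Finset.univ : Finset J) (fun j => K.obj j)
      (fun j => c.ι.app j ≫ ψ.f) (fun j => cC.ι.app j ≫ ψ.s) fun j _ => by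
        have h2 : L.map (cC.ι.app j) = L.map (c.ι.app j) ≫ u ≫ v := by
          rw [show cC.ι.app j = ((φ j).f ≫ w j) ≫ r from rfl, hv j]
          exact (congrArg (· ≫ v) (hu j).symm).trans (Category.assoc _ _ _)
        rw [L.map_comp, L.map_comp, h2, hψ, Category.assoc, ψ.map_comp_map_s L hW]
    have h1 : ψ.f ≫ q = hc.desc cC ≫ ψ.s ≫ q := hc.hom_ext fun j => by
      have h := hqe j (Finset.mem_univ j)
      simp only [Category.assoc] at h
      rw [h, hc.fac_assoc]
    have : IsIso (L.map (ψ.s ≫ q)) := hW _ (W.comp_mem _ _ ψ.hs hq)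
    rw [IsIso.eq_comp_inv, hψ, ← cancel_mono (L.map (ψ.s ≫ q)), ← L.map_comp (hc.desc cC), ← h1, L.map_comp,
      L.map_comp, ψ.map_comp_map_s_assoc L hW]

end Groth.Agent.CatLoc
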